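import Mathlib
import Cfsg.Agent.S0031
import Cfsg.Agent.S0032
import Cfsg.Agent.S0108

set_option autoImplicit false

namespace Cfsg.Agent.Lib.Helper26

open Cfsg

universe u

section fpfBasic

variable {G : Type u} [Group G]

/-! ### invariant subgroups, restriction and quotient of an automorphism -/

theorem map_eq_of_forall_mem [Finite G] (φ : G ≃* G) (S : Subgroup G) (h : ∀ x ∈ S, φ x ∈ S) :
    S.map (φ : G →* G) = S := by
  apply Subgroup.eq_of_le_of_card_ge
  · rintro _ ⟨x, hx, rfl⟩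
    exact h x hx
  · rw [Subgroup.card_map_of_injective (f := (φ : G →* G)) φ.injective]

theorem mem_of_map_eq {φ : G ≃* G} {S : Subgroup G} (h : S.map (φ : G →* G) = S) {x : G}
    (hx : x ∈ S) : φ x ∈ S := by
  have h1 : (φ : G →* G) x ∈ S.map (φ : G →* G) := Subgroup.mem_map_of_mem _ hx
  rw [h] at h1
  exact h1

theorem exists_of_map_eq {φ : G ≃* G} {S : Subgroup G} (h : S.map (φ : G →* G) = S) {x : G}
    (hx : x ∈ S) : ∃ y ∈ S, φ y = x := by
  rw [← h] at hx
  obtain ⟨y, hy, rfl⟩ := hx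
  exact ⟨y, hy, rfl⟩

/-- restriction of an automorphism to an invariant subgroup -/
noncomputable def resAut (φ : G ≃* G) (S : Subgroup G) (h : S.map (φ : G →* G) = S) : S ≃* S :=
  (φ.subgroupMap S).trans (MulEquiv.subgroupCongr h)

theorem resAut_coe (φ : G ≃* G) (S : Subgroup G) (h : S.map (φ : G →* G) = S) (x : S) :
    ((resAut φ S h x : S) : G) = φ x := rfl

theorem resAut_iterate (φ : G ≃* G) (S : Subgroup G) (h : S.map (φ : G →* G) = S) (k : ℕ)
    (x : S) : (((resAut φ S h)^[k] x : S) : G) = φ^[k] x := by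
  induction k generalizing x with
  | zero => rfl
  | succ k ih => rw [Function.iterate_succ_apply, Function.iterate_succ_apply, ih, resAut_coe]

theorem resAut_fpf (φ : G ≃* G) (S : Subgroup G) (h : S.map (φ : G →* G) = S)
    (hfix : ∀ x, φ x = x → x = 1) : ∀ x : S, resAut φ S h x = x → x = 1 := by
  intro x hx
  have h1 : φ (x : G) = x := by rw [← resAut_coe φ S h x, hx]
  exact Subtype.ext (hfix _ h1)

theorem resAut_pow (φ : G ≃* G) (S : Subgroup G) (h : S.map (φ : G →* G) = S) {r : ℕ}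
    (hpow : (⇑φ)^[r] = id) : (⇑(resAut φ S h))^[r] = id := by
  funext x
  apply Subtype.ext
  rw [resAut_iterate, hpow]
  rfl

/-- the automorphism induced on the quotient by an invariant normal subgroup -/
noncomputable def quotAut (φ : G ≃* G) (N : Subgroup G) [N.Normal] (h : N.map (φ : G →* G) = N) :
    G ⧸ N ≃* G ⧸ N :=
  QuotientGroup.congr N N φ h

theorem quotAut_mk (φ : G ≃* G) (N : Subgroup G) [N.Normal] (h : N.map (φ : G →* G) = N)
    (x : G) : quotAut φ N h (QuotientGroup.mk x) = QuotientGroup.mk (φ x) := rfl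

theorem quotAut_iterate (φ : G ≃* G) (N : Subgroup G) [N.Normal] (h : N.map (φ : G →* G) = N)
    (k : ℕ) (x : G) :
    (quotAut φ N h)^[k] (QuotientGroup.mk x) = QuotientGroup.mk (φ^[k] x) := by
  induction k generalizing x with
  | zero => rfl
  | succ k ih => rw [Function.iterate_succ_apply, Function.iterate_succ_apply, quotAut_mk, ih]

theorem quotAut_fpf [Finite G] (φ : G ≃* G) (N : Subgroup G) [N.Normal]
    (h : N.map (φ : G →* G) = N) (hfix : ∀ x, φ x = x → x = 1) :
    ∀ x : G ⧸ N, quotAut φ N h x = x → x = 1 := by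
  intro x
  induction x using QuotientGroup.induction_on with
  | H x =>
    intro hx
    rw [quotAut_mk] at hx
    have h1 : (φ x)⁻¹ * x ∈ N := QuotientGroup.eq.mp hx
    have h2 : x ∈ N := Cfsg.Agent.S0032.result φ hfix N (fun n hn => mem_of_map_eq h hn) x h1
    exact (QuotientGroup.eq_one_iff x).mpr h2

theorem quotAut_pow (φ : G ≃* G) (N : Subgroup G) [N.Normal] (h : N.map (φ : G →* G) = N)
    {r : ℕ} (hpow : (⇑φ)^[r] = id) : (⇑(quotAut φ N h))^[r] = id := by
  funext x
  induction x using QuotientGroup.induction_on with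
  | H x =>
    rw [quotAut_iterate, hpow]
    rfl

/-! ### the `t`-part of a nilpotent subgroup -/

theorem exists_tPart [Finite G] (C : Subgroup G) (hC : Group.IsNilpotent C) (t : ℕ)
    [Fact t.Prime] :
    ∃ W : Subgroup G, ∀ x, x ∈ W ↔ x ∈ C ∧ ∃ n : ℕ, x ^ t ^ n = 1 := by
  have ht : t.Prime := Fact.out
  have hall : ∀ (s : ℕ) (_ : Fact s.Prime) (T : Sylow s C), (T : Subgroup C).Normal :=
    ((Group.isNilpotent_of_finite_tfae (G := C)).out 0 3).mp hC
  have hnorm : ∀ T : Sylow t C, (T : Subgroup C).Normal := fun T => hall t inferInstance T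
  let T0 : Sylow t C := default
  refine ⟨(T0 : Subgroup C).map C.subtype, fun x => ⟨?_, ?_⟩⟩
  · rintro ⟨y, hy, rfl⟩
    obtain ⟨n, hn⟩ := T0.isPGroup' ⟨y, hy⟩
    refine ⟨y.2, n, ?_⟩
    have h1 := congrArg (fun z : (T0 : Subgroup C) => ((z : C) : G)) hn
    simpa using h1
  · rintro ⟨hx, n, hn⟩
    have hpg : IsPGroup t (Subgroup.zpowers (⟨x, hx⟩ : C)) := by
      have h1 : orderOf (⟨x, hx⟩ : C) ∣ t ^ n := by
        apply orderOf_dvd_of_pow_eq_one
        apply Subtype.ext
        simpa using hn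
      obtain ⟨j, -, hj⟩ := (Nat.dvd_prime_pow ht).mp h1
      apply IsPGroup.of_card (n := j)
      rw [Nat.card_zpowers, hj]
    obtain ⟨Q, hQ⟩ := hpg.exists_le_sylow
    have hu := Sylow.unique_of_normal T0 (hnorm T0)
    have hQT : Q = T0 := Subsingleton.elim _ _
    refine ⟨⟨x, hx⟩, ?_, rfl⟩
    rw [← hQT]
    exact hQ (Subgroup.mem_zpowers _)

theorem tPart_normal {t : ℕ} {W C : Subgroup G} [hC : C.Normal]
    (hW : ∀ x, x ∈ W ↔ x ∈ C ∧ ∃ n : ℕ, x ^ t ^ n = 1) : W.Normal := by
  constructor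
  intro x hx g
  obtain ⟨hxC, n, hn⟩ := (hW x).mp hx
  refine (hW _).mpr ⟨hC.conj_mem x hxC g, n, ?_⟩
  rw [conj_pow, hn]
  group

theorem tPart_map [Finite G] {t : ℕ} {W C : Subgroup G} (φ : G ≃* G)
    (hCφ : C.map (φ : G →* G) = C)
    (hW : ∀ x, x ∈ W ↔ x ∈ C ∧ ∃ n : ℕ, x ^ t ^ n = 1) : W.map (φ : G →* G) = W := by
  apply map_eq_of_forall_mem
  intro x hx
  obtain ⟨hxC, n, hn⟩ := (hW x).mp hx
  refine (hW _).mpr ⟨mem_of_map_eq hCφ hxC, n, ?_⟩
  rw [← map_pow, hn, map_one]

theorem tPart_isPGroup {t : ℕ} {W C : Subgroup G}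
    (hW : ∀ x, x ∈ W ↔ x ∈ C ∧ ∃ n : ℕ, x ^ t ^ n = 1) : IsPGroup t W := by
  intro g
  obtain ⟨-, n, hn⟩ := (hW g).mp g.2
  exact ⟨n, Subtype.ext (by simpa using hn)⟩

/-! ### nilpotent groups have normal `p`-complements -/

theorem npc_of_isNilpotent {M : Type u} [Group M] [Finite M] (hM : Group.IsNilpotent M)
    (p : ℕ) [Fact p.Prime] : Npc p M := by
  have hp : p.Prime := Fact.out
  have hnorm : ∀ (t : ℕ) (_ : Fact t.Prime) (T : Sylow t M), (T : Subgroup M).Normal :=
    ((Group.isNilpotent_of_finite_tfae (G := M)).out 0 3).mp hM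
  let P : Sylow p M := default
  have hPn : (P : Subgroup M).Normal := hnorm p inferInstance P
  have hle : ∀ (t : ℕ) (_ : Fact t.Prime), t ≠ p → ∀ T : Sylow t M,
      (T : Subgroup M) ≤ Subgroup.centralizer ((P : Subgroup M) : Set M) := by
    intro t _ htp T x hx
    rw [Subgroup.mem_centralizer_iff]
    intro y hy
    have hdisj := IsPGroup.disjoint_of_ne t p htp _ _ T.isPGroup' P.isPGroup'
    exact (Subgroup.commute_of_normal_of_disjoint _ _ (hnorm t inferInstance T) hPn hdisj
      x y hx hy).symm.eq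
  have hCn : (Subgroup.centralizer ((P : Subgroup M) : Set M)).Normal :=
    Subgroup.normal_centralizer
  have hidx : ∃ k : ℕ, (Subgroup.centralizer ((P : Subgroup M) : Set M)).index = p ^ k := by
    refine ⟨_, Nat.eq_prime_pow_of_unique_prime_dvd (Subgroup.index_ne_zero_of_finite) ?_⟩
    intro d hd hdvd
    by_contra hne
    have hdf : Fact d.Prime := ⟨hd⟩
    let T : Sylow d M := default
    have h1 := Subgroup.index_dvd_of_le (hle d hdf hne T)
    exact T.not_dvd_index (hdvd.trans h1)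
  obtain ⟨k, hk⟩ := hidx
  have hF : Cfsg.Agent.Lib.Helper2.FrobCond P := by
    intro Q hQ g _ hcop
    have h1 : g ^ (Subgroup.centralizer ((P : Subgroup M) : Set M)).index ∈
        Subgroup.centralizer ((P : Subgroup M) : Set M) := Subgroup.pow_index_mem _ g
    rw [hk] at h1
    have hc : (p ^ k).Coprime (orderOf g) := (Nat.Coprime.pow_right k hcop).symm
    obtain ⟨m, hm⟩ := exists_pow_eq_self_of_coprime hc
    have h2 : g ∈ Subgroup.centralizer ((P : Subgroup M) : Set M) := by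
      rw [← hm]; exact pow_mem h1 m
    exact Subgroup.centralizer_le hQ h2
  exact npc_of_hasNPC ⟨P, Cfsg.pResidual p M, Cfsg.Agent.Lib.Helper2.pResidual_normal p,
    Cfsg.Agent.Lib.Helper2.isComplement'_pResidual_of_frobCond P hF⟩

end fpfBasic

end Cfsg.Agent.Lib.Helper26
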