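import Mathlib

set_option autoImplicit false

namespace Cfsg.Agent.Lib.Helper26

universe u

section fpfTrace

/-- a point fixed by `φ^[k]`, `k` prime to the period `r` of `φ`, is fixed by `φ`. -/
theorem fixed_of_iterate_fixed {X : Type*} (φ : X → X) {r k : ℕ} (hpow : φ^[r] = id)
    (hk : Nat.Coprime k r) {x : X} (hx : φ^[k] x = x) : φ x = x := by
  have h1 : Function.IsPeriodicPt φ k x := hx
  have h2 : Function.IsPeriodicPt φ r x := by
    show φ^[r] x = x
    rw [hpow]; rfl
  have h3 := h1.gcd h2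
  rw [Nat.Coprime.gcd_eq_one hk] at h3
  exact h3

/-- the averaging ("trace") argument in abstract form. -/
theorem trace_abstract {V T : Type*} [CommGroup V] [Finite V] [Group T] [Finite T]
    (c : T → V → V) (hc_mul : ∀ w v1 v2, c w (v1 * v2) = c w v1 * c w v2)
    (hc_comp : ∀ w1 w2 v, c (w1 * w2) v = c w1 (c w2 v)) (hc_one : ∀ v, c 1 v = v)
    (r : ℕ) (hr : 0 < r) (Ψ : ℕ → V → V) (θ : ℕ → T → T)
    (hθ0 : ∀ w, θ 0 w = w) (hΨ0 : ∀ v, Ψ 0 v = v)
    (hcompat : ∀ k w v, Ψ k (c w v) = c (θ k w) (Ψ k v))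
    (htrace : ∀ v, ∏ k ∈ Finset.range r, Ψ k v = 1)
    (hd : ∀ k, 0 < k → k < r → Function.Injective (fun w : T => w * θ k w⁻¹))
    (hcop : (Nat.card T).Coprime (Nat.card V)) : ∀ w v, c w v = v := by
  classical
  have : Fintype T := Fintype.ofFinite T
  let C : T → V →* V := fun w => MonoidHom.mk' (c w) (hc_mul w)
  have hC : ∀ w v, C w v = c w v := fun w v => rfl
  let Nm : V → V := fun v => ∏ u : T, c u v
  have hNm : ∀ u0 v, c u0 (Nm v) = Nm v := by
    intro u0 v
    show c u0 (∏ u : T, c u v) = ∏ u : T, c u v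
    rw [← hC, map_prod]
    simp only [hC, ← hc_comp]
    exact Fintype.prod_equiv (Equiv.mulLeft u0) _ _ (fun u => rfl)
  have H : ∀ w v, ∏ k ∈ Finset.range r, c (w * θ k w⁻¹) (Ψ k v) = 1 := by
    intro w v
    have h1 := htrace (c w⁻¹ v)
    have h2 : C w (∏ k ∈ Finset.range r, Ψ k (c w⁻¹ v)) = 1 := by rw [h1, map_one]
    rw [map_prod] at h2
    rw [← h2]
    apply Finset.prod_congr rfl
    intro k _
    rw [hC, hcompat, ← hc_comp]
  have key : ∀ v, v ^ Nat.card T * ∏ k ∈ (Finset.range r).erase 0, Nm (Ψ k v) = 1 := by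
    intro v
    have h1 : ∏ w : T, ∏ k ∈ Finset.range r, c (w * θ k w⁻¹) (Ψ k v) = 1 :=
      Finset.prod_eq_one (fun w _ => H w v)
    rw [Finset.prod_comm, ← Finset.mul_prod_erase _ _ (Finset.mem_range.mpr hr)] at h1
    rw [← h1]
    congr 1
    · simp only [hθ0, hΨ0, mul_inv_cancel, hc_one, Finset.prod_const, Finset.card_univ,
        Nat.card_eq_fintype_card]
    · apply Finset.prod_congr rfl
      intro k hk
      have hk0 : 0 < k := Nat.pos_of_ne_zero (Finset.ne_of_mem_erase hk)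
      have hkr : k < r := Finset.mem_range.mp (Finset.mem_of_mem_erase hk)
      have hbij : Function.Bijective (fun w : T => w * θ k w⁻¹) :=
        Finite.injective_iff_bijective.mp (hd k hk0 hkr)
      exact (Function.Bijective.prod_comp hbij (fun u => c u (Ψ k v))).symm
  intro u0 v
  have h1 : c u0 v ^ Nat.card T = v ^ Nat.card T := by
    have e1 : v ^ Nat.card T = (∏ k ∈ (Finset.range r).erase 0, Nm (Ψ k v))⁻¹ :=
      eq_inv_of_mul_eq_one_left (key v)
    have e2 : c u0 (v ^ Nat.card T) = v ^ Nat.card T := by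
      rw [e1, ← hC, map_inv, map_prod]
      congr 1
      apply Finset.prod_congr rfl
      intro k _
      rw [hC, hNm]
    rw [← hC, ← map_pow, hC]; exact e2
  have h2 : (c u0 v * v⁻¹) ^ Nat.card T = 1 := by rw [mul_pow, inv_pow, h1, mul_inv_cancel]
  have h3 : orderOf (c u0 v * v⁻¹) ∣ Nat.card T := orderOf_dvd_of_pow_eq_one h2
  have h4 : orderOf (c u0 v * v⁻¹) ∣ Nat.card V := orderOf_dvd_natCard _
  have h5 : orderOf (c u0 v * v⁻¹) ∣ 1 := by
    have := Nat.dvd_gcd h3 h4
    rwa [Nat.Coprime.gcd_eq_one hcop] at this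
  have h6 : c u0 v * v⁻¹ = 1 := orderOf_eq_one_iff.mp (Nat.dvd_one.mp h5)
  exact mul_inv_eq_one.mp h6

variable {G : Type u} [Group G]

/-- the commutative group structure on a commutative subgroup -/
@[reducible] def commGroupOfComm (A : Subgroup G) (hA : ∀ a ∈ A, ∀ b ∈ A, a * b = b * a) :
    CommGroup ↥A :=
  { (inferInstance : Group ↥A) with mul_comm := fun a b => Subtype.ext (hA a a.2 b b.2) }

theorem coe_prod_range (A : Subgroup G) (hA : ∀ a ∈ A, ∀ b ∈ A, a * b = b * a) (f : ℕ → A)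
    (n : ℕ) :
    ((@Finset.prod ℕ A (@CommGroup.toCommMonoid A (commGroupOfComm A hA)) (Finset.range n) f : A)
        : G) = ((List.range n).map (fun k => (f k : G))).prod := by
  let _ : CommGroup A := commGroupOfComm A hA
  induction n with
  | zero => rfl
  | succ n ih =>
    rw [Finset.prod_range_succ, List.range_succ, List.map_append, List.prod_append, ← ih]
    simp only [List.map_cons, List.map_nil, List.prod_cons, List.prod_nil, mul_one]
    rfl

/-- **Trace lemma.** If `φ` is fixed-point-free with `φ^r = 1`, `r` prime, `A` is an abelian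
normal `φ`-invariant subgroup and `T` a `φ`-invariant subgroup of order prime to `|A|`, then
`T` centralizes `A`. -/
theorem trace_centralizes [Finite G] (φ : G ≃* G) (r : ℕ) (hr : r.Prime)
    (hfix : ∀ x, φ x = x → x = 1) (hpow : (⇑φ)^[r] = id)
    (A T : Subgroup G) [hAn : A.Normal] (hA : ∀ a ∈ A, ∀ b ∈ A, a * b = b * a)
    (hAφ : ∀ a ∈ A, φ a ∈ A) (hTφ : ∀ w ∈ T, φ w ∈ T)
    (hcop : (Nat.card T).Coprime (Nat.card A)) :
    T ≤ Subgroup.centralizer (A : Set G) := by
  have hAit : ∀ k : ℕ, ∀ a ∈ A, φ^[k] a ∈ A := by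
    intro k
    induction k with
    | zero => intro a ha; exact ha
    | succ k ih => intro a ha; rw [Function.iterate_succ_apply']; exact hAφ _ (ih a ha)
  have hTit : ∀ k : ℕ, ∀ a ∈ T, φ^[k] a ∈ T := by
    intro k
    induction k with
    | zero => intro a ha; exact ha
    | succ k ih => intro a ha; rw [Function.iterate_succ_apply']; exact hTφ _ (ih a ha)
  have hfpf : MonoidHom.FixedPointFree (φ : G →* G) := hfix
  have htr : ∀ g : G, ((List.range r).map (fun k => φ^[k] g)).prod = 1 := fun g =>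
    MonoidHom.FixedPointFree.prod_pow_eq_one hfpf hpow g
  let c : T → A → A := fun w v => ⟨(w : G) * v * (w : G)⁻¹, hAn.conj_mem v v.2 w⟩
  let Ψ : ℕ → A → A := fun k v => ⟨φ^[k] v, hAit k v v.2⟩
  let θ : ℕ → T → T := fun k w => ⟨φ^[k] w, hTit k w w.2⟩
  have main : ∀ (w : T) (v : A), c w v = v := by
    refine @trace_abstract A T (commGroupOfComm A hA) inferInstance inferInstance inferInstance
      c ?_ ?_ ?_ r hr.pos Ψ θ ?_ ?_ ?_ ?_ ?_ hcop
    · intro w v1 v2
      apply Subtype.ext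
      show (w : G) * ((v1 : G) * (v2 : G)) * (w : G)⁻¹ =
        ((w : G) * (v1 : G) * (w : G)⁻¹) * ((w : G) * (v2 : G) * (w : G)⁻¹)
      group
    · intro w1 w2 v
      apply Subtype.ext
      show ((w1 : G) * (w2 : G)) * (v : G) * ((w1 : G) * (w2 : G))⁻¹ =
        (w1 : G) * ((w2 : G) * (v : G) * (w2 : G)⁻¹) * (w1 : G)⁻¹
      group
    · intro v
      apply Subtype.ext
      show (1 : G) * (v : G) * (1 : G)⁻¹ = v
      group
    · intro w; rfl
    · intro v; rfl
    · intro k w v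
      apply Subtype.ext
      show φ^[k] ((w : G) * (v : G) * (w : G)⁻¹) =
        φ^[k] (w : G) * φ^[k] (v : G) * (φ^[k] (w : G))⁻¹
      rw [iterate_map_mul, iterate_map_mul, iterate_map_inv]
    · intro v
      exact Subtype.ext ((coe_prod_range A hA (fun k => Ψ k v) r).trans (htr (v : G)))
    · intro k hk0 hkr w w' hww
      have h1 : (w : G) * φ^[k] ((w : G)⁻¹) = (w' : G) * φ^[k] ((w' : G)⁻¹) :=
        congrArg Subtype.val hww
      have h2 : φ^[k] ((w' : G)⁻¹ * (w : G)) = (w' : G)⁻¹ * (w : G) := by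
        have e1 : φ^[k] ((w' : G)⁻¹) = (w' : G)⁻¹ * ((w : G) * φ^[k] ((w : G)⁻¹)) := by
          rw [h1]; group
        have e2 : φ^[k] (w : G) = (φ^[k] ((w : G)⁻¹))⁻¹ := by rw [iterate_map_inv, inv_inv]
        rw [iterate_map_mul, e1, e2]; group
      have hck : Nat.Coprime k r :=
        ((Nat.Prime.coprime_iff_not_dvd hr).mpr (Nat.not_dvd_of_pos_of_lt hk0 hkr)).symm
      have h3 : φ ((w' : G)⁻¹ * (w : G)) = (w' : G)⁻¹ * (w : G) :=
        fixed_of_iterate_fixed (⇑φ) hpow hck h2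
      have h4 := hfix _ h3
      exact Subtype.ext (inv_mul_eq_one.mp h4).symm
  intro w hw
  rw [Subgroup.mem_centralizer_iff]
  intro a ha
  have h1 : w * a * w⁻¹ = a := congrArg Subtype.val (main ⟨w, hw⟩ ⟨a, ha⟩)
  calc a * w = (w * a * w⁻¹) * w := by rw [h1]
    _ = w * a := by group

end fpfTrace

end Cfsg.Agent.Lib.Helper26
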