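import Mathlib

set_option autoImplicit false
set_option linter.style.haveILetI false
set_option linter.unusedSectionVars false

namespace Cfsg.Agent.Lib.Helper26

section grossLin

variable {k : Type*} [Field k] {M : Type*} [AddCommGroup M] [Module k M]

/-- joint eigenspace of a family of operators -/
def grossEig {Y : Type*} (act : Y → Module.End k M) (a : Y → k) : Submodule k M where
  carrier := {m | ∀ y, act y m = a y • m}
  add_mem' := by
    intro x y hx hy z
    rw [map_add, hx z, hy z, smul_add]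
  zero_mem' := by
    intro z
    rw [map_zero, smul_zero]
  smul_mem' := by
    intro c x hx z
    rw [map_smul, hx z, smul_comm]

theorem mem_grossEig {Y : Type*} (act : Y → Module.End k M) (a : Y → k) (m : M) :
    m ∈ grossEig act a ↔ ∀ y, act y m = a y • m := Iff.rfl

/-- the averaging operator attached to a character -/
noncomputable def grossProj {Y : Type*} [Group Y] [Fintype Y] (act : Y →* Module.End k M)
    (a : Y → k) : Module.End k M :=
  (Fintype.card Y : k)⁻¹ • ∑ y : Y, (a y)⁻¹ • act y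

theorem grossProj_apply {Y : Type*} [Group Y] [Fintype Y] (act : Y →* Module.End k M)
    (a : Y → k) (m : M) :
    grossProj act a m = (Fintype.card Y : k)⁻¹ • ∑ y : Y, (a y)⁻¹ • act y m := by
  simp [grossProj, LinearMap.sum_apply]

theorem grossProj_mem {Y : Type*} [Group Y] [Fintype Y] (act : Y →* Module.End k M)
    (a : Y → k) (hmul : ∀ y y', a (y * y') = a y * a y') (hne : ∀ y, a y ≠ 0) (m : M) :
    grossProj act a m ∈ grossEig (fun y => act y) a := by
  intro y'
  show act y' (grossProj act a m) = a y' • grossProj act a m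
  have e1 : act y' (∑ y : Y, (a y)⁻¹ • act y m) = a y' • ∑ y : Y, (a y)⁻¹ • act y m := by
    rw [map_sum, Finset.smul_sum]
    apply Fintype.sum_equiv (Equiv.mulLeft y')
    intro y
    show act y' ((a y)⁻¹ • act y m) = a y' • (a (y' * y))⁻¹ • act (y' * y) m
    rw [map_smul, map_mul, Module.End.mul_apply, hmul, mul_inv, smul_smul]
    congr 1
    have := hne y'
    field_simp
  rw [grossProj_apply, map_smul, e1, smul_comm]

theorem grossProj_of_mem {Y : Type*} [Group Y] [Fintype Y] (act : Y →* Module.End k M)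
    (a : Y → k) (hne : ∀ y, a y ≠ 0) (hcard : (Fintype.card Y : k) ≠ 0) {m : M}
    (hm : m ∈ grossEig (fun y => act y) a) : grossProj act a m = m := by
  rw [grossProj_apply]
  have h1 : ∀ y : Y, (a y)⁻¹ • act y m = m := by
    intro y
    rw [hm y, smul_smul, inv_mul_cancel₀ (hne y), one_smul]
  rw [Finset.sum_congr rfl (fun y _ => h1 y), Finset.sum_const, Finset.card_univ,
    ← Nat.cast_smul_eq_nsmul k, smul_smul, inv_mul_cancel₀ hcard, one_smul]

theorem grossProj_of_ne {Y : Type*} [Group Y] [Fintype Y] (act : Y →* Module.End k M)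
    (a : Y → k) (hmul : ∀ y y', a (y * y') = a y * a y') (hne : ∀ y, a y ≠ 0) {m : M}
    (y₀ : Y) (c : k) (hc : c ≠ a y₀) (hm : act y₀ m = c • m) : grossProj act a m = 0 := by
  rw [grossProj_apply]
  have hS : ∑ y : Y, (a y)⁻¹ • act y m = ((a y₀)⁻¹ * c) • ∑ y : Y, (a y)⁻¹ • act y m := by
    rw [Finset.smul_sum]
    symm
    apply Fintype.sum_equiv (Equiv.mulRight y₀)
    intro y
    show ((a y₀)⁻¹ * c) • (a y)⁻¹ • act y m = (a (y * y₀))⁻¹ • act (y * y₀) m
    rw [map_mul, Module.End.mul_apply, hm, map_smul, hmul, mul_inv, smul_smul, smul_smul]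
    congr 1
    ring
  have h2 : (1 - (a y₀)⁻¹ * c) • ∑ y : Y, (a y)⁻¹ • act y m = 0 := by
    rw [sub_smul, one_smul, ← hS, sub_self]
  have h3 : (1 - (a y₀)⁻¹ * c) ≠ 0 := by
    intro h
    apply hc
    have h4 : (a y₀)⁻¹ * c = 1 := (sub_eq_zero.mp h).symm
    field_simp [hne y₀] at h4
    exact h4
  rw [(smul_eq_zero.mp h2).resolve_left h3, smul_zero]

/-- **Decomposition into joint eigenspaces.** -/
theorem gross_dec {Y : Type*} [Group Y] [Fintype Y] (act : Y →* Module.End k M)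
    {I : Type*} [Fintype I] [DecidableEq I] (α : I → Y → k)
    (hmul : ∀ i y y', α i (y * y') = α i y * α i y')
    (hne : ∀ i y, α i y ≠ 0)
    (hdist : ∀ i j, i ≠ j → ∃ y, α i y ≠ α j y)
    (hcard : (Fintype.card Y : k) ≠ 0)
    (horth : ∑ y : Y, (∑ i : I, (α i y)⁻¹) • act y =
      (Fintype.card Y : k) • (1 : Module.End k M)) :
    Nonempty (M ≃ₗ[k] ((i : I) → grossEig (fun y => act y) (α i))) := by
  have hsum : ∀ m : M, ∑ i : I, grossProj act (α i) m = m := by
    intro m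
    simp only [grossProj_apply]
    rw [← Finset.smul_sum, Finset.sum_comm]
    have h1 : ∀ y : Y, ∑ i : I, (α i y)⁻¹ • act y m = ((∑ i : I, (α i y)⁻¹) • act y) m := by
      intro y
      rw [LinearMap.smul_apply, Finset.sum_smul]
    rw [Finset.sum_congr rfl (fun y _ => h1 y), ← LinearMap.sum_apply, horth,
      LinearMap.smul_apply, smul_smul, inv_mul_cancel₀ hcard, one_smul]
    rfl
  let Φ : M →ₗ[k] ((i : I) → grossEig (fun y => act y) (α i)) :=
    LinearMap.pi (fun i => (grossProj act (α i)).codRestrict _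
      (fun m => grossProj_mem act (α i) (hmul i) (hne i) m))
  let Ψ : ((i : I) → grossEig (fun y => act y) (α i)) →ₗ[k] M :=
    ∑ i : I, (Submodule.subtype _).comp (LinearMap.proj i)
  have hΨ : ∀ f, Ψ f = ∑ i : I, (f i : M) := by
    intro f
    simp [Ψ, LinearMap.sum_apply]
  refine ⟨LinearEquiv.ofLinearMap Φ Ψ ?_ ?_⟩
  · apply LinearMap.ext
    intro f
    funext j
    apply Subtype.ext
    show grossProj act (α j) (Ψ f) = (f j : M)
    rw [hΨ, map_sum]
    rw [Finset.sum_eq_single j]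
    · exact grossProj_of_mem act (α j) (hne j) hcard (f j).2
    · intro i _ hij
      obtain ⟨y₀, hy₀⟩ := hdist i j hij
      exact grossProj_of_ne act (α j) (hmul j) (hne j) y₀ (α i y₀) hy₀ ((f i).2 y₀)
    · intro h
      exact absurd (Finset.mem_univ j) h
  · apply LinearMap.ext
    intro m
    show Ψ (Φ m) = m
    rw [hΨ]
    exact hsum m

theorem gross_dec_finrank [Module.Finite k M] {Y : Type*} [Group Y] [Fintype Y]
    (act : Y →* Module.End k M)
    {I : Type*} [Fintype I] [DecidableEq I] (α : I → Y → k)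
    (hmul : ∀ i y y', α i (y * y') = α i y * α i y')
    (hne : ∀ i y, α i y ≠ 0)
    (hdist : ∀ i j, i ≠ j → ∃ y, α i y ≠ α j y)
    (hcard : (Fintype.card Y : k) ≠ 0)
    (horth : ∑ y : Y, (∑ i : I, (α i y)⁻¹) • act y =
      (Fintype.card Y : k) • (1 : Module.End k M)) :
    Module.finrank k M = ∑ i : I, Module.finrank k (grossEig (fun y => act y) (α i)) := by
  obtain ⟨e⟩ := gross_dec act α hmul hne hdist hcard horth
  rw [e.finrank_eq, Module.finrank_pi_fintype]

/-! ### eigenvectors of operators of finite order -/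

theorem gross_prod_ne_zero (f : Module.End k M) (U : Submodule k M)
    (hfU : ∀ u ∈ U, f u ∈ U) (h : ∀ c : k, ∀ u ∈ U, f u = c • u → u = 0) (l : List k) :
    ∀ u ∈ U, u ≠ 0 → (l.map (fun c => f - algebraMap k (Module.End k M) c)).prod u ∈ U ∧
      (l.map (fun c => f - algebraMap k (Module.End k M) c)).prod u ≠ 0 := by
  induction l with
  | nil =>
    intro u hu hu0
    simpa using ⟨hu, hu0⟩
  | cons c l ih =>
    intro u hu hu0
    obtain ⟨h1, h2⟩ := ih u hu hu0
    rw [List.map_cons, List.prod_cons, Module.End.mul_apply, LinearMap.sub_apply,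
      Module.algebraMap_end_apply]
    exact ⟨U.sub_mem (hfU _ h1) (U.smul_mem c h1), fun h3 => h2 (h c _ h1 (sub_eq_zero.mp h3))⟩

theorem gross_exists_eig (f : Module.End k M) {m : ℕ} (hm : 0 < m) (hf : f ^ m = 1)
    {ζ : k} (hζ : IsPrimitiveRoot ζ m) (U : Submodule k M) (hU : U ≠ ⊥)
    (hfU : ∀ u ∈ U, f u ∈ U) : ∃ u ∈ U, u ≠ 0 ∧ ∃ c : k, f u = c • u := by
  by_contra hcon
  push_neg at hcon
  obtain ⟨u, hu, hu0⟩ := (Submodule.ne_bot_iff U).mp hU
  have h := gross_prod_ne_zero f U hfU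
    (fun c u hu h => by_contra fun h0 => hcon u hu h0 c h)
    (Polynomial.nthRootsFinset m (1 : k)).toList u hu hu0
  have e : ((Polynomial.nthRootsFinset m (1 : k)).toList.map
      (fun c => f - algebraMap k (Module.End k M) c)).prod = 0 := by
    have h1 := congrArg (Polynomial.aeval f) (Polynomial.X_pow_sub_one_eq_prod hm hζ)
    rw [← Finset.prod_map_toList, map_list_prod, List.map_map] at h1
    simp only [map_sub, map_pow, Polynomial.aeval_X, map_one] at h1
    rw [hf, sub_self] at h1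
    rw [h1]
    congr 1
    apply List.map_congr_left
    intro c _
    simp
  rw [e] at h
  exact h.2 rfl

/-- a common eigenvector for a subgroup acting by commuting operators of good finite order -/
theorem gross_common_eig [Module.Finite k M] {Γ : Type*} [Group Γ] (ρ : Γ →* Module.End k M)
    (B : Subgroup Γ)
    (hroot : ∀ b ∈ B, ∃ m : ℕ, 0 < m ∧ b ^ m = 1 ∧ ∃ ζ : k, IsPrimitiveRoot ζ m) :
    ∀ (d : ℕ) (U : Submodule k M), Module.finrank k U = d → U ≠ ⊥ →
      (∀ b ∈ B, ∀ u ∈ U, ρ b u ∈ U) →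
      (∀ b ∈ B, ∀ b' ∈ B, ∀ u ∈ U, ρ b (ρ b' u) = ρ b' (ρ b u)) →
      ∃ s ∈ U, s ≠ 0 ∧ ∀ b ∈ B, ∃ c : k, ρ b s = c • s := by
  intro d
  induction d using Nat.strong_induction_on with
  | _ d ih =>
    intro U hd hU hBU hcomm
    by_cases hsc : ∀ b ∈ B, ∃ c : k, ∀ u ∈ U, ρ b u = c • u
    · obtain ⟨u, hu, hu0⟩ := (Submodule.ne_bot_iff U).mp hU
      exact ⟨u, hu, hu0, fun b hb => (hsc b hb).imp fun c hc => hc u hu⟩
    · push_neg at hsc
      obtain ⟨b₀, hb₀, hb₀'⟩ := hsc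
      obtain ⟨m, hm, hbm, ζ, hζ⟩ := hroot b₀ hb₀
      have hf : (ρ b₀) ^ m = 1 := by rw [← map_pow, hbm, map_one]
      obtain ⟨u₁, hu₁, hu₁0, c₁, hc₁⟩ := gross_exists_eig (ρ b₀) hm hf hζ U hU (hBU b₀ hb₀)
      let U₁ : Submodule k M := U ⊓ LinearMap.ker (ρ b₀ - algebraMap k (Module.End k M) c₁)
      have hmemU₁ : ∀ u, u ∈ U₁ ↔ u ∈ U ∧ ρ b₀ u = c₁ • u := by
        intro u
        simp only [U₁, Submodule.mem_inf, LinearMap.mem_ker, LinearMap.sub_apply,
          Module.algebraMap_end_apply, sub_eq_zero]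
      have hU₁ : U₁ ≠ ⊥ := by
        rw [Submodule.ne_bot_iff]
        exact ⟨u₁, (hmemU₁ u₁).mpr ⟨hu₁, hc₁⟩, hu₁0⟩
      have hlt : U₁ < U := by
        refine lt_of_le_of_ne inf_le_left ?_
        intro heq
        obtain ⟨u, hu, hne⟩ := hb₀' c₁
        rw [← heq] at hu
        exact hne ((hmemU₁ u).mp hu).2
      have hfr : Module.finrank k U₁ < d := by
        rw [← hd]
        exact Submodule.finrank_lt_finrank_of_lt hlt
      have hBU₁ : ∀ b ∈ B, ∀ u ∈ U₁, ρ b u ∈ U₁ := by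
        intro b hb u hu
        rw [hmemU₁] at hu ⊢
        refine ⟨hBU b hb u hu.1, ?_⟩
        rw [hcomm b₀ hb₀ b hb u hu.1, hu.2, map_smul]
      obtain ⟨s, hs, hs0, hs'⟩ := ih _ hfr U₁ rfl hU₁ hBU₁
        (fun b hb b' hb' u hu => hcomm b hb b' hb' u ((hmemU₁ u).mp hu).1)
      exact ⟨s, ((hmemU₁ s).mp hs).1, hs0, hs'⟩

/-! ### averaging a projection -/

theorem gross_avg {Γ : Type*} [Group Γ] (ρ : Γ →* Module.End k M) (B H : Subgroup Γ) [Finite B]
    (hB : (Nat.card B : k) ≠ 0) (U : Submodule k M) (hBU : ∀ b ∈ B, ∀ u ∈ U, ρ b u ∈ U)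
    (π : Module.End k M) (hπU : ∀ v, π v ∈ U) (hπ : ∀ u ∈ U, π u = u)
    (hBH : ∀ b ∈ B, ∀ h ∈ H, b⁻¹ * h * b ∈ H)
    (hπH : ∀ h ∈ H, ∀ v, π (ρ h v) = ρ h (π v)) :
    ∃ π' : Module.End k M, (∀ v, π' v ∈ U) ∧ (∀ u ∈ U, π' u = u) ∧
      (∀ b ∈ B, ∀ v, π' (ρ b v) = ρ b (π' v)) ∧
      (∀ h ∈ H, ∀ v, π' (ρ h v) = ρ h (π' v)) := by
  classical
  haveI : Fintype B := Fintype.ofFinite B
  have hB' : (Fintype.card B : k) ≠ 0 := by rwa [← Nat.card_eq_fintype_card]
  let π' : Module.End k M := (Fintype.card B : k)⁻¹ • ∑ b : B, ρ b * π * ρ (b⁻¹ : B)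
  have happ : ∀ v, π' v = (Fintype.card B : k)⁻¹ • ∑ b : B, ρ b (π (ρ ((b⁻¹ : B) : Γ) v)) := by
    intro v
    simp [π', LinearMap.sum_apply, Module.End.mul_apply]
  refine ⟨π', ?_, ?_, ?_, ?_⟩
  · intro v
    rw [happ]
    exact U.smul_mem _ (U.sum_mem fun b _ => hBU b b.2 _ (hπU _))
  · intro u hu
    rw [happ]
    have h1 : ∀ b : B, ρ b (π (ρ ((b⁻¹ : B) : Γ) u)) = u := by
      intro b
      rw [hπ _ (hBU _ (b⁻¹).2 u hu), ← Module.End.mul_apply, ← map_mul]
      simp
    rw [Finset.sum_congr rfl (fun b _ => h1 b), Finset.sum_const, Finset.card_univ,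
      ← Nat.cast_smul_eq_nsmul k, smul_smul, inv_mul_cancel₀ hB', one_smul]
  · intro b₀ hb₀ v
    rw [happ, happ, map_smul, map_sum]
    congr 1
    rw [← Fintype.sum_equiv (Equiv.mulLeft (⟨b₀, hb₀⟩ : B))
      (fun b => ρ b₀ (ρ b (π (ρ ((b⁻¹ : B) : Γ) v))))
      (fun b => ρ b (π (ρ ((b⁻¹ : B) : Γ) (ρ b₀ v))))]
    intro b
    show ρ b₀ (ρ b (π (ρ ((b : Γ)⁻¹) v))) = ρ (b₀ * b) (π (ρ ((b₀ * (b : Γ))⁻¹) (ρ b₀ v)))
    have h1 : ρ ((b₀ * (b : Γ))⁻¹) (ρ b₀ v) = ρ ((b : Γ)⁻¹) v := by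
      rw [← Module.End.mul_apply, ← map_mul]
      congr 2
      group
    rw [h1, map_mul, Module.End.mul_apply]
  · intro h hh v
    rw [happ, happ, map_smul, map_sum]
    congr 1
    apply Finset.sum_congr rfl
    intro b _
    have h1 : ρ ((b⁻¹ : B) : Γ) (ρ h v) = ρ ((b : Γ)⁻¹ * h * b) (ρ ((b⁻¹ : B) : Γ) v) := by
      rw [← Module.End.mul_apply, ← Module.End.mul_apply, ← map_mul, ← map_mul]
      congr 2
      simp
    rw [h1, hπH _ (hBH b b.2 h hh), ← Module.End.mul_apply, ← Module.End.mul_apply (ρ h),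
      ← map_mul, ← map_mul]
    congr 2
    group

theorem gross_isCompl_ker (π' : Module.End k M) (U : Submodule k M) (h1 : ∀ v, π' v ∈ U)
    (h2 : ∀ u ∈ U, π' u = u) : IsCompl U (LinearMap.ker π') := by
  constructor
  · rw [Submodule.disjoint_def]
    intro u hu hk
    rw [← h2 u hu]
    exact LinearMap.mem_ker.mp hk
  · rw [codisjoint_iff, eq_top_iff]
    intro v _
    have h3 : v = π' v + (v - π' v) := by abel
    rw [h3]
    refine Submodule.add_mem_sup (h1 v) ?_
    rw [LinearMap.mem_ker, map_sub, h2 _ (h1 v), sub_self]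

end grossLin

end Cfsg.Agent.Lib.Helper26
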