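import Mathlib

set_option autoImplicit false

/-! Double cosets `B x B` in a group (foundation of the counting argument for `|²F₄(q)|`). -/

namespace Cfsg.Agent.Lib.Helper26.DcAbs

variable {Γ : Type*} [Group Γ]

/-- the double coset `B x B` -/
abbrev dc (B : Subgroup Γ) (x : Γ) : Set Γ := DoubleCoset.doubleCoset x (B : Set Γ) B

theorem mem_dc {B : Subgroup Γ} {x g : Γ} :
    g ∈ dc B x ↔ ∃ b ∈ B, ∃ b' ∈ B, g = b * x * b' := DoubleCoset.mem_doubleCoset

end Cfsg.Agent.Lib.Helper26.DcAbs
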