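import Mathlib
import Cfsg.Agent.S0033

set_option autoImplicit false

namespace Cfsg.Agent.Lib.Helper26

universe u

section fpfConj

variable {G : Type u} [Group G]

/-- conjugation by a normalizing element, as an automorphism of the subgroup -/
def conjAutOf (Q : Subgroup G) (k : G) (h1 : ∀ x ∈ Q, k * x * k⁻¹ ∈ Q)
    (h2 : ∀ x ∈ Q, k⁻¹ * x * k ∈ Q) : Q ≃* Q where
  toFun x := ⟨k * x * k⁻¹, h1 x x.2⟩
  invFun x := ⟨k⁻¹ * x * k, h2 x x.2⟩
  left_inv x := by
    apply Subtype.ext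
    show k⁻¹ * (k * (x : G) * k⁻¹) * k = x
    group
  right_inv x := by
    apply Subtype.ext
    show k * (k⁻¹ * (x : G) * k) * k⁻¹ = x
    group
  map_mul' x y := by
    apply Subtype.ext
    show k * ((x : G) * (y : G)) * k⁻¹ = (k * (x : G) * k⁻¹) * (k * (y : G) * k⁻¹)
    group

theorem conjAutOf_iterate (Q : Subgroup G) (k : G)
    (h1 : ∀ x ∈ Q, k * x * k⁻¹ ∈ Q) (h2 : ∀ x ∈ Q, k⁻¹ * x * k ∈ Q) (n : ℕ) (x : Q) :
    (((conjAutOf Q k h1 h2)^[n] x : Q) : G) = k ^ n * x * (k ^ n)⁻¹ := by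
  induction n with
  | zero => simp
  | succ n ih =>
    rw [Function.iterate_succ_apply']
    show k * (((conjAutOf Q k h1 h2)^[n] x : Q) : G) * k⁻¹ = k ^ (n + 1) * x * (k ^ (n + 1))⁻¹
    rw [ih, pow_succ']
    group

/-- A finite subgroup `Q` normalized by an element `k` with `k ^ r = 1`, `r` prime, such that
only the identity of `Q` commutes with `k`, is nilpotent (Thompson). -/
theorem nilpotent_of_conj_fpf [Finite G] (Q : Subgroup G) (k : G) (r : ℕ) (hr : r.Prime)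
    (hkr : k ^ r = 1) (h1 : ∀ x ∈ Q, k * x * k⁻¹ ∈ Q) (h2 : ∀ x ∈ Q, k⁻¹ * x * k ∈ Q)
    (hfpf : ∀ x ∈ Q, k * x = x * k → x = 1) : Group.IsNilpotent Q := by
  apply Cfsg.Agent.S0033.fpf_nilpotent r hr (Nat.card Q) Q rfl (conjAutOf Q k h1 h2)
  · intro z hz
    have h3 : k * (z : G) * k⁻¹ = z := congrArg Subtype.val hz
    have h4 : k * (z : G) = (z : G) * k := by
      calc k * (z : G) = (k * (z : G) * k⁻¹) * k := by group
        _ = (z : G) * k := by rw [h3]
    exact Subtype.ext (hfpf _ z.2 h4)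
  · funext z
    apply Subtype.ext
    rw [conjAutOf_iterate, hkr]
    simp

end fpfConj

end Cfsg.Agent.Lib.Helper26
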