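import Cfsg.Agent.S1990
import Cfsg.Agent.S3073
import Cfsg.Agent.Lib.Helper42.Sec15

/-!
# The normal `p`-complement criterion for the lower `K`-infinity subgroup, relative to control
of strong fusion

`kInfLower_npc_of_controls` derives the statement of S1988 from the statement of S1987 (control of
strong fusion by `K_∞` in groups all of whose sections are `p`-stable), using S1990 (the
Thompson-style criterion for isomorphism-invariant functors) and the self-centralizing property of
`K_∞(S)`.
-/

set_option autoImplicit false
universe u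
open Cfsg

namespace Cfsg.Agent.Lib.Helper26

/-- the lower `K`-infinity subgroup of a Sylow `p`-subgroup `S`, viewed in `G`, contains its
centralizer in `S`. -/
theorem ind_kInfLower_selfCentralizing {G : Type u} [Group G] [Finite G] {p : ℕ} [Fact p.Prime]
    (S : Sylow p G) :
    ∀ z ∈ (S : Subgroup G),
      z ∈ Subgroup.centralizer
        ((Cfsg.inducedFunctor Cfsg.kInfLower (S : Subgroup G) : Subgroup G) : Set G) →
      z ∈ (Cfsg.inducedFunctor Cfsg.kInfLower (S : Subgroup G) : Subgroup G) := by
  intro z hz hzc
  have hS : IsPGroup p ↥(S : Subgroup G) := S.isPGroup'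
  have h1 := (Helper42.kInf_centralizer_le (P := ↥(S : Subgroup G)) hS).1
  have h2 : (⟨z, hz⟩ : ↥(S : Subgroup G)) ∈
      Subgroup.centralizer (Cfsg.kInfLower ↥(S : Subgroup G) : Set ↥(S : Subgroup G)) := by
    rw [Subgroup.mem_centralizer_iff]
    intro k hk
    have h3 := Subgroup.mem_centralizer_iff.mp hzc (k : G) ⟨k, hk, rfl⟩
    exact Subtype.ext h3
  exact ⟨⟨z, hz⟩, h1 h2, rfl⟩

/-- **S1988 from S1987.** If the lower `K`-infinity subgroup controls strong fusion in every
finite group all of whose sections are `p`-stable, then the normal `p`-complement criterion for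
`N_G(K_∞(S))` holds. -/
theorem kInfLower_npc_of_controls
    (h1987 : ∀ {G : Type u} [Group G] [Finite G] {p : ℕ} [Fact p.Prime], p ≠ 2 →
      (∀ (K R : Subgroup G) [(R.subgroupOf K).Normal],
        Cfsg.IsNormalizerPStable p (↥K ⧸ R.subgroupOf K)) →
      ∀ S : Sylow p G,
        Cfsg.ControlsStrongFusion p (Cfsg.inducedFunctor Cfsg.kInfLower (S : Subgroup G)))
    {G : Type u} [Group G] [Finite G] {p : ℕ} [Fact p.Prime] (hp : p ≠ 2) (S : Sylow p G)
    (h : Cfsg.HasNormalPComplement p ↥(Subgroup.normalizer
          ((Cfsg.inducedFunctor Cfsg.kInfLower (S : Subgroup G) : Subgroup G) : Set G)) ∨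
      ∀ g ∈ Subgroup.normalizer
          ((Cfsg.inducedFunctor Cfsg.kInfLower (S : Subgroup G) : Subgroup G) : Set G),
        (orderOf g).Coprime p →
          g ∈ Subgroup.centralizer
            ((Cfsg.inducedFunctor Cfsg.kInfLower (S : Subgroup G) : Subgroup G) : Set G)) :
    Cfsg.HasNormalPComplement p G := by
  have hW : Cfsg.IsCharPFunctor.{u} p Cfsg.kInfLower := Helper42.isCharPFunctor_kInfLower p
  have hN : Cfsg.HasNormalPComplement p ↥(Subgroup.normalizer
      ((Cfsg.inducedFunctor Cfsg.kInfLower (S : Subgroup G) : Subgroup G) : Set G)) := by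
    rcases h with h | h
    · exact h
    · apply hasNPC_of_npc
      exact Cfsg.Agent.S3073.npc_normalizer_of_control S _
        (Subgroup.le_normalizer.trans (normalizer_le_normalizer_ind hW S.isPGroup'))
        (ind_kInfLower_selfCentralizing S) h
  exact Cfsg.Agent.S1990.result hp Cfsg.kInfLower hW S hN
    (fun K R hR hst T => h1987 hp hst T)

end Cfsg.Agent.Lib.Helper26
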