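import Mathlib
import Cfsg.Agent.Lib.Helper26.FpfBasic
import Cfsg.Agent.Lib.Helper26.FpfTrace

set_option autoImplicit false

namespace Cfsg.Agent.Lib.Helper26

universe u

section kegelAbstract

/-- the averaging argument with an arbitrary family of reindexing maps `d k`. -/
theorem trace_abstract' {V T : Type*} [CommGroup V] [Finite V] [Group T] [Finite T]
    (c : T → V → V) (hc_mul : ∀ w v1 v2, c w (v1 * v2) = c w v1 * c w v2)
    (hc_comp : ∀ w1 w2 v, c (w1 * w2) v = c w1 (c w2 v)) (hc_one : ∀ v, c 1 v = v)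
    (r : ℕ) (hr : 0 < r) (Ψ : ℕ → V → V) (d : ℕ → T → T)
    (hd0 : ∀ w, d 0 w = 1) (hΨ0 : ∀ v, Ψ 0 v = v)
    (H : ∀ w v, ∏ k ∈ Finset.range r, c (d k w) (Ψ k v) = 1)
    (hd : ∀ k, 0 < k → k < r → Function.Injective (d k))
    (hcop : (Nat.card T).Coprime (Nat.card V)) : ∀ w v, c w v = v := by
  classical
  have : Fintype T := Fintype.ofFinite T
  let C : T → V →* V := fun w => MonoidHom.mk' (c w) (hc_mul w)
  have hC : ∀ w v, C w v = c w v := fun w v => rfl
  let Nm : V → V := fun v => ∏ u : T, c u v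
  have hNm : ∀ u0 v, c u0 (Nm v) = Nm v := by
    intro u0 v
    show c u0 (∏ u : T, c u v) = ∏ u : T, c u v
    rw [← hC, map_prod]
    simp only [hC, ← hc_comp]
    exact Fintype.prod_equiv (Equiv.mulLeft u0) _ _ (fun u => rfl)
  have key : ∀ v, v ^ Nat.card T * ∏ k ∈ (Finset.range r).erase 0, Nm (Ψ k v) = 1 := by
    intro v
    have h1 : ∏ w : T, ∏ k ∈ Finset.range r, c (d k w) (Ψ k v) = 1 :=
      Finset.prod_eq_one (fun w _ => H w v)
    rw [Finset.prod_comm, ← Finset.mul_prod_erase _ _ (Finset.mem_range.mpr hr)] at h1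
    rw [← h1]
    congr 1
    · simp only [hd0, hΨ0, hc_one, Finset.prod_const, Finset.card_univ,
        Nat.card_eq_fintype_card]
    · apply Finset.prod_congr rfl
      intro k hk
      have hk0 : 0 < k := Nat.pos_of_ne_zero (Finset.ne_of_mem_erase hk)
      have hkr : k < r := Finset.mem_range.mp (Finset.mem_of_mem_erase hk)
      have hbij : Function.Bijective (d k) :=
        Finite.injective_iff_bijective.mp (hd k hk0 hkr)
      exact (Function.Bijective.prod_comp hbij (fun u => c u (Ψ k v))).symm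
  intro u0 v
  have h1 : c u0 v ^ Nat.card T = v ^ Nat.card T := by
    have e1 : v ^ Nat.card T = (∏ k ∈ (Finset.range r).erase 0, Nm (Ψ k v))⁻¹ :=
      eq_inv_of_mul_eq_one_left (key v)
    have e2 : c u0 (v ^ Nat.card T) = v ^ Nat.card T := by
      rw [e1, ← hC, map_inv, map_prod]
      congr 1
      apply Finset.prod_congr rfl
      intro k _
      rw [hC, hNm]
    rw [← hC, ← map_pow, hC]; exact e2
  have h2 : (c u0 v * v⁻¹) ^ Nat.card T = 1 := by rw [mul_pow, inv_pow, h1, mul_inv_cancel]
  have h3 : orderOf (c u0 v * v⁻¹) ∣ Nat.card T := orderOf_dvd_of_pow_eq_one h2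
  have h4 : orderOf (c u0 v * v⁻¹) ∣ Nat.card V := orderOf_dvd_natCard _
  have h5 : orderOf (c u0 v * v⁻¹) ∣ 1 := by
    have := Nat.dvd_gcd h3 h4
    rwa [Nat.Coprime.gcd_eq_one hcop] at this
  have h6 : c u0 v * v⁻¹ = 1 := orderOf_eq_one_iff.mp (Nat.dvd_one.mp h5)
  exact mul_inv_eq_one.mp h6

end kegelAbstract

section kegel

variable {G : Type u} [Group G]

/-- the partial products `x · φ x ⋯ φ^{k-1} x` -/
def pprod (φ : G → G) (k : ℕ) (x : G) : G := ((List.range k).map (fun i => φ^[i] x)).prod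

theorem pprod_zero (φ : G → G) (x : G) : pprod φ 0 x = 1 := rfl

theorem pprod_succ (φ : G → G) (k : ℕ) (x : G) : pprod φ (k + 1) x = pprod φ k x * φ^[k] x := by
  unfold pprod
  rw [List.range_succ, List.map_append, List.prod_append]
  simp

theorem pprod_one (φ : G → G) (x : G) : pprod φ 1 x = x := by
  rw [pprod_succ, pprod_zero, one_mul]; rfl

/-- `φ` is `p`-splitting: `x · φ x ⋯ φ^{p-1} x = 1` for all `x`. -/
def Split (p : ℕ) (φ : G → G) : Prop := ∀ x, pprod φ p x = 1

theorem pprod_succ' (φ : G ≃* G) (k : ℕ) (x : G) :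
    pprod φ (k + 1) x = x * φ (pprod φ k x) := by
  induction k with
  | zero => rw [pprod_one, pprod_zero, map_one, mul_one]
  | succ k ih =>
    conv_lhs => rw [pprod_succ, ih]
    rw [pprod_succ φ k x, map_mul, Function.iterate_succ_apply', mul_assoc]

theorem pprod_add (φ : G ≃* G) (k m : ℕ) (x : G) :
    pprod φ (k + m) x = pprod φ k x * φ^[k] (pprod φ m x) := by
  induction m with
  | zero => rw [Nat.add_zero, pprod_zero, iterate_map_one, mul_one]
  | succ m ih =>
    rw [← Nat.add_assoc, pprod_succ, ih, pprod_succ φ m x, iterate_map_mul,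
      Function.iterate_add_apply, mul_assoc]

theorem split_iterate {p : ℕ} (φ : G ≃* G) (h : Split p φ) : (⇑φ)^[p] = id := by
  funext x
  have h1 := pprod_succ φ p x
  rw [pprod_succ', h x, map_one, mul_one, one_mul] at h1
  exact h1.symm

theorem split_fixed {p : ℕ} (φ : G ≃* G) (h : Split p φ) {x : G} (hx : φ x = x) :
    x ^ p = 1 := by
  have h1 : ∀ k : ℕ, pprod φ k x = x ^ k := by
    intro k
    induction k with
    | zero => rw [pprod_zero, pow_zero]
    | succ k ih => rw [pprod_succ, ih, Function.iterate_fixed hx, pow_succ]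
  rw [← h1]; exact h x

theorem pprod_mul_period {p : ℕ} (φ : G ≃* G) (h : Split p φ) (j : ℕ) (x : G) :
    pprod φ (p * j) x = 1 := by
  induction j with
  | zero => rw [Nat.mul_zero, pprod_zero]
  | succ j ih =>
    rw [Nat.mul_succ, pprod_add, ih, h x, iterate_map_one, mul_one]

theorem iterate_mul_period {p : ℕ} (φ : G ≃* G) (h : Split p φ) (j : ℕ) :
    (⇑φ)^[p * j] = id := by
  rw [Function.iterate_mul, split_iterate φ h]
  exact Function.iterate_id j

theorem pprod_mod {p : ℕ} (φ : G ≃* G) (h : Split p φ) (n : ℕ) (x : G) :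
    pprod φ n x = pprod φ (n % p) x := by
  conv_lhs => rw [← Nat.div_add_mod n p]
  rw [pprod_add, pprod_mul_period φ h, iterate_mul_period φ h, one_mul]
  rfl

theorem pprod_mul_eq (φ : G ≃* G) {k : ℕ} {x y : G} (h : pprod φ k x = pprod φ k y)
    (m : ℕ) : pprod φ (k * m) x = pprod φ (k * m) y := by
  induction m with
  | zero => rw [Nat.mul_zero, pprod_zero, pprod_zero]
  | succ m ih => rw [Nat.mul_succ, pprod_add, pprod_add, ih, h]

theorem pprod_inj {p : ℕ} (hp : p.Prime) (φ : G ≃* G) (h : Split p φ) {k : ℕ} (hk0 : 0 < k)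
    (hkp : k < p) {x y : G} (hxy : pprod φ k x = pprod φ k y) : x = y := by
  have hcop : Nat.Coprime k p :=
    ((Nat.Prime.coprime_iff_not_dvd hp).mpr (Nat.not_dvd_of_pos_of_lt hk0 hkp)).symm
  obtain ⟨m, -, hm⟩ := Nat.exists_mul_mod_eq_one_of_coprime hcop hp.one_lt
  have h1 := pprod_mul_eq φ hxy m
  rw [pprod_mod φ h (k * m) x, pprod_mod φ h (k * m) y, hm, pprod_one, pprod_one] at h1
  exact h1

/-- the inner twist `x ↦ g · φ x · g⁻¹` -/
def twist (g : G) (φ : G ≃* G) : G ≃* G := φ.trans (MulAut.conj g)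

theorem twist_apply (g : G) (φ : G ≃* G) (x : G) : twist g φ x = g * φ x * g⁻¹ := rfl

theorem twist_iterate (g : G) (φ : G ≃* G) (k : ℕ) (x : G) :
    (twist g φ)^[k] x = pprod φ k g * φ^[k] x * (pprod φ k g)⁻¹ := by
  induction k with
  | zero => rw [pprod_zero]; simp
  | succ k ih =>
    rw [Function.iterate_succ_apply', ih, twist_apply, pprod_succ', map_mul, map_mul, map_inv,
      Function.iterate_succ_apply']
    group

theorem twist_pprod (g : G) (φ : G ≃* G) (k : ℕ) (x : G) :
    pprod (twist g φ) k x * pprod φ k g = pprod φ k (x * g) := by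
  induction k with
  | zero => rw [pprod_zero, pprod_zero, pprod_zero, one_mul]
  | succ k ih =>
    rw [pprod_succ, pprod_succ, pprod_succ, ← ih, twist_iterate, iterate_map_mul]
    group

theorem split_twist {p : ℕ} (g : G) (φ : G ≃* G) (h : Split p φ) : Split p (twist g φ) := by
  intro x
  have h1 := twist_pprod g φ p x
  rw [h g, h (x * g), mul_one] at h1
  exact h1

theorem split_resAut {p : ℕ} (φ : G ≃* G) (S : Subgroup G) (hS : S.map (φ : G →* G) = S)
    (h : Split p φ) : Split p (resAut φ S hS) := by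
  have h1 : ∀ (k : ℕ) (x : S), ((pprod (resAut φ S hS) k x : S) : G) = pprod φ k x := by
    intro k x
    induction k with
    | zero => rfl
    | succ k ih => rw [pprod_succ, pprod_succ, Subgroup.coe_mul, ih, resAut_iterate]
  intro x
  apply Subtype.ext
  rw [h1, h (x : G)]
  rfl

theorem split_quotAut {p : ℕ} (φ : G ≃* G) (N : Subgroup G) [N.Normal]
    (hN : N.map (φ : G →* G) = N) (h : Split p φ) : Split p (quotAut φ N hN) := by
  have h1 : ∀ (k : ℕ) (x : G), pprod (quotAut φ N hN) k (QuotientGroup.mk x) =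
      QuotientGroup.mk (pprod φ k x) := by
    intro k x
    induction k with
    | zero => rfl
    | succ k ih => rw [pprod_succ, pprod_succ, ih, quotAut_iterate]; rfl
  intro x
  induction x using QuotientGroup.induction_on with
  | H x =>
    rw [h1, h x]
    rfl

/-- **Trace lemma, splitting version.** If `φ` is `p`-splitting, `A` is an abelian normal
`φ`-invariant subgroup and `T` a `φ`-invariant subgroup of order prime to `|A|`, then `T`
centralizes `A`. -/
theorem kegel_centralizes [Finite G] (φ : G ≃* G) (p : ℕ) (hp : p.Prime) (hsplit : Split p φ)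
    (A T : Subgroup G) [hAn : A.Normal] (hA : ∀ a ∈ A, ∀ b ∈ A, a * b = b * a)
    (hAφ : ∀ a ∈ A, φ a ∈ A) (hTφ : ∀ w ∈ T, φ w ∈ T)
    (hcop : (Nat.card T).Coprime (Nat.card A)) :
    T ≤ Subgroup.centralizer (A : Set G) := by
  have hAit : ∀ k : ℕ, ∀ a ∈ A, φ^[k] a ∈ A := by
    intro k
    induction k with
    | zero => intro a ha; exact ha
    | succ k ih => intro a ha; rw [Function.iterate_succ_apply']; exact hAφ _ (ih a ha)
  have hTit : ∀ k : ℕ, ∀ a ∈ T, φ^[k] a ∈ T := by
    intro k
    induction k with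
    | zero => intro a ha; exact ha
    | succ k ih => intro a ha; rw [Function.iterate_succ_apply']; exact hTφ _ (ih a ha)
  have hTpp : ∀ k : ℕ, ∀ w ∈ T, pprod φ k w ∈ T := by
    intro k
    induction k with
    | zero => intro w _; rw [pprod_zero]; exact T.one_mem
    | succ k ih => intro w hw; rw [pprod_succ]; exact T.mul_mem (ih w hw) (hTit k w hw)
  let c : T → A → A := fun w v => ⟨(w : G) * v * (w : G)⁻¹, hAn.conj_mem v v.2 w⟩
  let Ψ : ℕ → A → A := fun k v => ⟨φ^[k] v, hAit k v v.2⟩
  let d : ℕ → T → T := fun k w => ⟨pprod φ k w, hTpp k w w.2⟩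
  have main : ∀ (w : T) (v : A), c w v = v := by
    refine @trace_abstract' A T (commGroupOfComm A hA) inferInstance inferInstance inferInstance
      c ?_ ?_ ?_ p hp.pos Ψ d ?_ ?_ ?_ ?_ hcop
    · intro w v1 v2
      apply Subtype.ext
      show (w : G) * ((v1 : G) * (v2 : G)) * (w : G)⁻¹ =
        ((w : G) * (v1 : G) * (w : G)⁻¹) * ((w : G) * (v2 : G) * (w : G)⁻¹)
      group
    · intro w1 w2 v
      apply Subtype.ext
      show ((w1 : G) * (w2 : G)) * (v : G) * ((w1 : G) * (w2 : G))⁻¹ =
        (w1 : G) * ((w2 : G) * (v : G) * (w2 : G)⁻¹) * (w1 : G)⁻¹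
      group
    · intro v
      apply Subtype.ext
      show (1 : G) * (v : G) * (1 : G)⁻¹ = v
      group
    · intro w; rfl
    · intro v; rfl
    · intro w v
      have h1 : ((List.range p).map (fun k => ((c (d k w) (Ψ k v) : A) : G))).prod =
          pprod (twist (w : G) φ) p (v : G) := by
        unfold pprod
        congr 1
        apply List.map_congr_left
        intro k _
        rw [twist_iterate]
      exact Subtype.ext ((coe_prod_range A hA (fun k => c (d k w) (Ψ k v)) p).trans
        (h1.trans (split_twist (w : G) φ hsplit (v : G))))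
    · intro k hk0 hkp w w' hww
      have h1 : pprod φ k (w : G) = pprod φ k (w' : G) := congrArg Subtype.val hww
      exact Subtype.ext (pprod_inj hp φ hsplit hk0 hkp h1)
  intro w hw
  rw [Subgroup.mem_centralizer_iff]
  intro a ha
  have h1 : w * a * w⁻¹ = a := congrArg Subtype.val (main ⟨w, hw⟩ ⟨a, ha⟩)
  calc a * w = (w * a * w⁻¹) * w := by rw [h1]
    _ = w * a := by group

end kegel

end Cfsg.Agent.Lib.Helper26
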