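import Mathlib
import Cfsg.Agent.Lib.Helper52.SP8EBDefs

/-! SP8-EB (sub-project of S5823, architect helper52): piece `MINB` (helper26).
Moving a quaternion factor of `L'` to another position by a swap of the tensor factors. -/

set_option autoImplicit false

namespace Cfsg.Agent.Lib.Helper52.SP8EB

open Matrix Cfsg.Geo Cfsg.Agent.Lib.Helper71.Asch

variable {n : ℕ} {F : Type*} [Field F] [Fintype F]

/-- MINB. -/
theorem MINB (f : (Fin n → F) → (Fin n → F) → F) (e : Fin n ≃ (Fin 3 → Fin 2)) (P : GL (Fin n) F)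
    (hpg : HPermG f e P) (hpgl : HPermGL e P) (hpc : HPermConj F) (hglof : HGlof e P)
    (hinv : HQinv F) (L' : Subgroup (GL (Fin n) F)) (hN : Nrm (Gsub f e P) L') (i₀ : Fin 3)
    (h : HasFactor e P L' i₀) (i : Fin 3) : HasFactor e P L' i := by
  intro y hy g hg
  obtain ⟨gσ, hgσ, hgσi⟩ := hpgl (Equiv.swap i₀ i)
  have hgσG : gσ ∈ Gsub f e P := hpg (Equiv.swap i₀ i) gσ hgσ
  obtain ⟨y', -, hyy', -⟩ := hinv y hy
  obtain ⟨g₀, hg₀, -⟩ := hglof
    (Function.update (fun _ => (1 : Matrix (Fin 2) (Fin 2) F)) i₀ y)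
    (Function.update (fun _ => (1 : Matrix (Fin 2) (Fin 2) F)) i₀ y') (by
      intro j
      by_cases hj : j = i₀
      · subst hj
        rw [Function.update_self, Function.update_self, hyy']
      · rw [Function.update_of_ne hj, Function.update_of_ne hj, mul_one])
  have hg₀' : g₀.1 = tw e P (iota i₀ y) := by rw [hg₀, iota_eq_pt]
  have hg₀L : g₀ ∈ L' := h y hy g₀ hg₀'
  have hconj : gσ * g₀ * gσ⁻¹ ∈ L' := hN gσ hgσG g₀ hg₀L
  have hEq : g = gσ * g₀ * gσ⁻¹ := by
    apply Units.ext
    rw [Units.val_mul, Units.val_mul, hgσ, hgσi, hg₀, hg, tw_mul, tw_mul, hpc (Equiv.swap i₀ i),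
      iota_eq_pt]
    congr 2
    funext j
    rw [Equiv.symm_swap]
    by_cases hj : j = i
    · subst hj
      rw [Equiv.swap_apply_right, Function.update_self, Function.update_self]
    · have hne : (Equiv.swap i₀ i) j ≠ i₀ := by
        intro hc
        apply hj
        have h1 := congrArg (Equiv.swap i₀ i) hc
        rw [Equiv.swap_apply_self, Equiv.swap_apply_left] at h1
        exact h1
      rw [Function.update_of_ne hj, Function.update_of_ne hne]
  rw [hEq]
  exact hconj

end Cfsg.Agent.Lib.Helper52.SP8EB
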