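import Mathlib
import Cfsg.Prelude.Def_Local
import Cfsg.Agent.Lib.Helper26.FpfBasic
import Cfsg.Agent.Lib.Helper26.FpfTrace

/-!
# Finite solvable groups are `p`-solvable (in the sense of `Cfsg.IsPSolvable`)
-/

set_option autoImplicit false

namespace Cfsg.Agent.Lib.Helper26

universe u

/-- Lifting a `p`-solvable chain from a quotient by a normal `p`- or `p'`-subgroup. -/
theorem isPSolvable_lift {G : Type u} [Group G] (p : ℕ) (N : Subgroup G) [N.Normal]
    (hN : (∃ m : ℕ, Nat.card N = p ^ m) ∨ (Nat.card N).Coprime p)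
    (h : Cfsg.IsPSolvable p (G ⧸ N)) : Cfsg.IsPSolvable p G := by
  obtain ⟨n, K, h0, hlast, hmono, hnormal, hidx⟩ := h
  have hsurj : Function.Surjective (QuotientGroup.mk' N) := QuotientGroup.mk'_surjective N
  refine ⟨n + 1, Fin.cons ⊥ (fun i => (K i).comap (QuotientGroup.mk' N)), ?_, ?_, ?_, ?_, ?_⟩
  · rfl
  · rw [← Fin.succ_last, Fin.cons_succ, hlast]
    rfl
  · intro i j hij
    induction i using Fin.cases with
    | zero => simp
    | succ i =>
      induction j using Fin.cases with
      | zero => exact absurd hij (by simp)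
      | succ j =>
        simp only [Fin.cons_succ]
        exact Subgroup.comap_mono (hmono (Fin.succ_le_succ_iff.mp hij))
  · intro i
    induction i using Fin.cases with
    | zero =>
      simp only [Fin.cons_zero]
      infer_instance
    | succ i =>
      simp only [Fin.cons_succ]
      exact (hnormal i).comap _
  · intro i
    induction i using Fin.cases with
    | zero =>
      simp only [Fin.castSucc_zero, Fin.cons_zero, Fin.cons_succ, Subgroup.relIndex_bot_left]
      have hk : (K 0).comap (QuotientGroup.mk' N) = N := by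
        rw [h0]
        exact QuotientGroup.ker_mk' N
      rw [hk]
      exact hN
    | succ i =>
      rw [← Fin.succ_castSucc]
      simp only [Fin.cons_succ]
      rw [Subgroup.relIndex_comap, Subgroup.map_comap_eq_self_of_surjective hsurj]
      exact hidx i

/-- A nontrivial finite solvable group has a nontrivial normal `q`-subgroup for some prime `q`. -/
theorem exists_normal_pgroup_of_isSolvable {G : Type u} [Group G] [Finite G]
    (hs : Group.IsSolvable G) (hnt : Nontrivial G) :
    ∃ (q : ℕ) (_ : q.Prime) (N : Subgroup G), N.Normal ∧ N ≠ ⊥ ∧ IsPGroup q N := by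
  classical
  have hex : ∃ n : ℕ, derivedSeries G n = ⊥ := hs.solvable
  have hm : derivedSeries G (Nat.find hex) = ⊥ := Nat.find_spec hex
  have hm0 : Nat.find hex ≠ 0 := by
    intro h0
    rw [h0, derivedSeries_zero] at hm
    exact top_ne_bot hm
  obtain ⟨k, hk⟩ := Nat.exists_eq_succ_of_ne_zero hm0
  have hk' : derivedSeries G k ≠ ⊥ := Nat.find_min hex (by omega : k < Nat.find hex)
  have hA : ⁅derivedSeries G k, derivedSeries G k⁆ = ⊥ := by
    rw [← derivedSeries_succ, ← Nat.succ_eq_add_one, ← hk]
    exact hm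
  have hAn : (derivedSeries G k).Normal := inferInstance
  have hcomm : ∀ a ∈ derivedSeries G k, ∀ b ∈ derivedSeries G k, a * b = b * a := by
    intro a ha b hb
    have h1 : a * b * a⁻¹ * b⁻¹ ∈ ⁅derivedSeries G k, derivedSeries G k⁆ :=
      Subgroup.commutator_mem_commutator ha hb
    rw [hA, Subgroup.mem_bot] at h1
    calc a * b = (a * b * a⁻¹ * b⁻¹) * (b * a) := by group
      _ = b * a := by rw [h1, one_mul]
  have hAnil : Group.IsNilpotent (derivedSeries G k) :=
    @CommGroup.isNilpotent _ (commGroupOfComm (derivedSeries G k) hcomm)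
  obtain ⟨x, hx1⟩ := (Subgroup.ne_bot_iff_exists_ne_one).mp hk'
  have hx1' : (x : G) ≠ 1 := fun h => hx1 (Subtype.ext h)
  have ho : orderOf (x : G) ≠ 1 := fun h => hx1' (orderOf_eq_one_iff.mp h)
  obtain ⟨t, ht, htd⟩ := Nat.exists_prime_and_dvd ho
  have : Fact t.Prime := ⟨ht⟩
  obtain ⟨W, hW⟩ := exists_tPart (derivedSeries G k) hAnil t
  refine ⟨t, ht, W, tPart_normal hW, ?_, tPart_isPGroup hW⟩
  obtain ⟨c, hc⟩ := htd
  have hy : (x : G) ^ c ∈ W := by
    refine (hW _).mpr ⟨Subgroup.pow_mem _ x.2 c, 1, ?_⟩
    rw [pow_one, ← pow_mul, mul_comm, ← hc, pow_orderOf_eq_one]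
  intro hbot
  rw [hbot, Subgroup.mem_bot] at hy
  have h2 : orderOf (x : G) ∣ c := orderOf_dvd_of_pow_eq_one hy
  have hpos : 0 < orderOf (x : G) := orderOf_pos _
  have hcpos : 0 < c := by
    rcases Nat.eq_zero_or_pos c with h | h
    · rw [h, mul_zero] at hc; omega
    · exact h
  have h3 : orderOf (x : G) ≤ c := Nat.le_of_dvd hcpos h2
  have h4 : 2 ≤ t := ht.two_le
  nlinarith

/-- A finite solvable group is `p`-solvable. -/
theorem isPSolvable_of_isSolvable (p : ℕ) [Fact p.Prime] :
    ∀ (n : ℕ) (G : Type u) [Group G] [Finite G], Nat.card G = n → Group.IsSolvable G →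
      Cfsg.IsPSolvable p G := by
  intro n
  induction n using Nat.strong_induction_on with
  | _ n ih =>
    intro G _ _ hn hs
    rcases subsingleton_or_nontrivial G with hsub | hnt
    · refine ⟨0, fun _ => ⊥, rfl, ?_, fun _ _ _ => le_rfl, fun _ => inferInstance, fun i => i.elim0⟩
      exact Subsingleton.elim _ _
    · obtain ⟨q, hq, N, hNn, hNbot, hNq⟩ := exists_normal_pgroup_of_isSolvable hs hnt
      have hp : p.Prime := Fact.out
      have : Fact q.Prime := ⟨hq⟩
      obtain ⟨m, hm⟩ := IsPGroup.iff_card.mp hNq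
      have hN : (∃ m : ℕ, Nat.card N = p ^ m) ∨ (Nat.card N).Coprime p := by
        by_cases hqp : q = p
        · left; exact ⟨m, by rw [hm, hqp]⟩
        · right
          rw [hm]
          exact Nat.Coprime.pow_left m ((Nat.coprime_primes hq hp).mpr hqp)
      have hcard : Nat.card (G ⧸ N) < n := by
        have h1 : Nat.card (G ⧸ N) * Nat.card N = Nat.card G := by
          exact (Subgroup.card_eq_card_quotient_mul_card_subgroup N).symm
        have h2 : 1 < Nat.card N := by
          have := (Subgroup.one_lt_card_iff_ne_bot N).mpr hNbot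
          exact this
        have h3 : 0 < Nat.card (G ⧸ N) := Nat.card_pos
        rw [← hn, ← h1]
        nlinarith
      have hsq : Group.IsSolvable (G ⧸ N) :=
        Group.isSolvable_of_surjective (QuotientGroup.mk'_surjective N)
      exact isPSolvable_lift p N hN (ih _ hcard (G ⧸ N) rfl hsq)

end Cfsg.Agent.Lib.Helper26
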